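import Groth.Agent.TorsorQuotLib.Ring
import Groth.Agent.QuotLib.Props
import Mathlib.AlgebraicGeometry.Limits
import Mathlib.AlgebraicGeometry.Morphisms.Flat
import Mathlib.AlgebraicGeometry.Morphisms.FormallyUnramified
import Mathlib.AlgebraicGeometry.Morphisms.Etale

/-!
# Free quotients by finite groups are torsors
-/

noncomputable section

universe u

open CategoryTheory CategoryTheory.Limits AlgebraicGeometry TopologicalSpace TensorProduct

namespace TorsorQuotLib

variable {X Y : Scheme.{u}} {G : Type u} [Group G] {ρ : G →* Aut X} {p : X ⟶ Y}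

/-- Freeness on geometric points. -/
abbrev Free (ρ : G →* Aut X) : Prop :=
  ∀ (K : Type u) [Field K] [IsAlgClosed K] (ξ : Spec (CommRingCat.of K) ⟶ X) (g : G), ξ ≫ (ρ g).hom = ξ → g = 1

/-- The `g`-th graph. -/
abbrev gr (hinv : ∀ g : G, (ρ g).hom ≫ p = p) (g : G) : X ⟶ pullback p p :=
  pullback.lift (𝟙 X) (ρ g).hom ((Category.id_comp p).trans (hinv g).symm)

theorem gr_fst (hinv : ∀ g : G, (ρ g).hom ≫ p = p) (g : G) : gr hinv g ≫ pullback.fst p p = 𝟙 X :=
  pullback.lift_fst _ _ _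

theorem gr_snd (hinv : ∀ g : G, (ρ g).hom ≫ p = p) (g : G) : gr hinv g ≫ pullback.snd p p = (ρ g).hom :=
  pullback.lift_snd _ _ _

theorem exists_model [Finite G] (hp : SGA1.IsQuot ρ p) (hfree : Free ρ) {U : Y.Opens} (hU : IsAffineOpen U) :
    ∃ (A B : CommRingCat.{u}) (i : B ⟶ A) (c : Spec A ⟶ X) (d : Spec B ⟶ Y) (_ : IsOpenImmersion c)
      (_ : IsOpenImmersion d) (w : Spec.map i ≫ d = c ≫ p),
      Set.range d = U ∧ Set.range c = p ⁻¹' U ∧ i.hom.Flat ∧
      ∃ (D : G → (Spec A ⟶ pullback (Spec.map i) (Spec.map i))),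
        (∀ g, D g ≫ pullback.map _ _ p p c c d w w = c ≫ gr hp.inv g) ∧ IsIso (Sigma.desc D) := by
  classical
  haveI := hp.affine
  let W : X.Opens := p ⁻¹ᵁ U
  have hW : IsAffineOpen W := hU.preimage p
  have hle : ∀ g : G, W ≤ (ρ g).hom ⁻¹ᵁ W := fun g => SGA1.preimage_le_of_inv ρ p hp.inv g U
  let σ : G → (Γ(X, W) ⟶ Γ(X, W)) := fun g => (ρ g).hom.appLE W W (hle g)
  have hσmul : ∀ g h, σ (g * h) = σ g ≫ σ h := fun g h => by
    show (ρ (g * h)).hom.appLE W W _ = _
    simp only [σ]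
    rw [Scheme.Hom.appLE_comp_appLE]
    congr 1
    rw [map_mul]; rfl
  have hσone : σ 1 = 𝟙 _ := by
    show (ρ 1).hom.appLE W W _ = _
    simp only [map_one]
    show (𝟙 X : X ⟶ X).appLE W W _ = _
    rw [Scheme.Hom.appLE, Scheme.Hom.id_app]
    erw [Category.id_comp]
    exact X.presheaf.map_id _
  letI : MulSemiringAction G Γ(X, W) :=
    { smul := fun g s => (σ g⁻¹).hom s
      one_smul := fun s => by show (σ 1⁻¹).hom s = s; rw [inv_one, hσone]; rfl
      mul_smul := fun g h s => by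
        show (σ (g * h)⁻¹).hom s = (σ g⁻¹).hom ((σ h⁻¹).hom s)
        rw [mul_inv_rev, hσmul]; rfl
      smul_zero := fun g => map_zero _
      smul_add := fun g => map_add _
      smul_one := fun g => map_one _
      smul_mul := fun g => map_mul _ }
  letI : Algebra Γ(Y, U) Γ(X, W) := (p.app U).hom.toAlgebra
  haveI : SMulCommClass G Γ(Y, U) Γ(X, W) := ⟨fun g b a => by
    show (σ g⁻¹).hom (algebraMap Γ(Y, U) Γ(X, W) b * a) = algebraMap Γ(Y, U) Γ(X, W) b * (σ g⁻¹).hom a
    rw [map_mul]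
    congr 1
    exact ((hp.range_iff U ((p.app U).hom b)).1 ⟨b, rfl⟩ g⁻¹)⟩
  haveI : Algebra.IsInvariant Γ(Y, U) Γ(X, W) G := ⟨fun s hs => by
    obtain ⟨b, hb⟩ := (hp.range_iff U s).2 fun g => by
      have := hs g⁻¹
      change (σ g⁻¹⁻¹).hom s = s at this
      rwa [inv_inv] at this
    exact ⟨b, hb⟩⟩
  have hinj : Function.Injective (algebraMap Γ(Y, U) Γ(X, W)) := hp.injective U
  have hc : ∀ g, Spec.map (σ g) ≫ hW.fromSpec = hW.fromSpec ≫ (ρ g).hom := fun g =>
    IsAffineOpen.SpecMap_appLE_fromSpec (ρ g).hom hW hW (hle g)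
  have hh : ∀ g : G, g ≠ 1 → Ideal.span (Set.range fun a : Γ(X, W) => a - g • a) = ⊤ := fun g hg =>
    span_eq_top g fun K _ _ ψ hψ => hg (inv_eq_one.1 (hfree K (Spec.map (CommRingCat.ofHom ψ) ≫ hW.fromSpec) g⁻¹ (by
      rw [Category.assoc, ← hc, ← Spec.map_comp_assoc]
      congr 2
      ext a
      exact hψ a)))
  let i : Γ(Y, U) ⟶ Γ(X, W) := p.app U
  have w : Spec.map i ≫ hU.fromSpec = hW.fromSpec ≫ p := by
    rw [← IsAffineOpen.SpecMap_appLE_fromSpec p hU hW le_rfl, ← Scheme.Hom.app_eq_appLE]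
  let D : G → (Spec Γ(X, W) ⟶ pullback (Spec.map i) (Spec.map i)) := fun g =>
    pullback.lift (𝟙 _) (Spec.map (σ g)) (by
      rw [Category.id_comp, ← Spec.map_comp]
      congr 1
      ext b
      exact ((hp.range_iff U ((p.app U).hom b)).1 ⟨b, rfl⟩ g).symm)
  refine ⟨_, _, i, hW.fromSpec, hU.fromSpec, inferInstance, inferInstance, w, hU.range_fromSpec, hW.range_fromSpec,
    RingHom.flat_algebraMap_iff.2 (flat (G := G) hinj hh), D, fun g => ?_, ?_⟩
  · apply pullback.hom_ext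
    · rw [Category.assoc, Category.assoc, gr_fst]
      erw [pullback.lift_fst, pullback.lift_fst_assoc]
      simp
    · rw [Category.assoc, Category.assoc, gr_snd]
      erw [pullback.lift_snd, pullback.lift_snd_assoc]
      exact hc g
  · let R : G → CommRingCat.{u} := fun _ => Γ(X, W)
    let Φ : Γ(X, W) ⊗[Γ(Y, U)] Γ(X, W) →+* (G → Γ(X, W)) :=
      (Pi.ringHom fun g => Pi.evalRingHom (fun _ : G => Γ(X, W)) g⁻¹).comp
        (phi (B := Γ(Y, U)) (A := Γ(X, W)) (G := G)).toRingHom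
    have hΦbij : Function.Bijective Φ := by
      refine ⟨fun a b hab => phi_injective hinj hh (funext fun g => ?_), fun f => ?_⟩
      · have h1 : phi a g⁻¹⁻¹ = phi b g⁻¹⁻¹ := congrFun hab g⁻¹
        rwa [inv_inv] at h1
      · obtain ⟨z, hz⟩ := phi_surjective (B := Γ(Y, U)) hh fun g => f g⁻¹
        refine ⟨z, funext fun g => ?_⟩
        show phi z g⁻¹ = f g
        rw [hz]; exact congrArg f (inv_inv g)
    let e : Spec (CommRingCat.of (G → Γ(X, W))) ⟶ Spec (CommRingCat.of (Γ(X, W) ⊗[Γ(Y, U)] Γ(X, W))) :=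
      Spec.map (CommRingCat.ofHom Φ)
    haveI : IsIso e := isIso_SpecMap_iff.2 hΦbij
    have hD : Sigma.desc D = sigmaSpec R ≫ e ≫ (pullbackSpecIso Γ(Y, U) Γ(X, W) Γ(X, W)).inv := by
      refine Sigma.hom_ext _ _ fun g => ?_
      rw [Sigma.ι_desc, ι_sigmaSpec_assoc]
      apply pullback.hom_ext
      · erw [pullback.lift_fst, Category.assoc, Category.assoc, pullbackSpecIso_inv_fst]
        simp only [e, ← Spec.map_comp]
        refine Spec.map_id _ ▸ congrArg Spec.map ?_
        ext a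
        show a = phi (a ⊗ₜ[Γ(Y, U)] 1) g⁻¹
        rw [phi_tmul, smul_one, mul_one]
      · erw [pullback.lift_snd, Category.assoc, Category.assoc, pullbackSpecIso_inv_snd]
        simp only [e, ← Spec.map_comp]
        refine congrArg Spec.map ?_
        ext a
        show (σ g).hom a = phi (1 ⊗ₜ[Γ(Y, U)] a) g⁻¹
        rw [phi_tmul, one_mul]
        show (σ g).hom a = (σ g⁻¹⁻¹).hom a
        rw [inv_inv]
    rw [hD]
    infer_instance

theorem flat_of_free [Finite G] (hp : SGA1.IsQuot ρ p) (hfree : Free ρ) : Flat p := by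
  haveI := hp.affine
  haveI : IsZariskiLocalAtTarget (@Flat : MorphismProperty Scheme.{u}) :=
    @HasRingHomProperty.instIsZariskiLocalAtTarget _ _ inferInstance
  refine IsZariskiLocalAtTarget.of_iSup_eq_top (P := (@Flat : MorphismProperty Scheme.{u})) (fun U : Y.affineOpens => U.1)
    (iSup_affineOpens_eq_top Y) fun U => ?_
  obtain ⟨A, B, i, c, d, _, _, w, hd, hc, hflat, -⟩ := exists_model hp hfree U.2
  have hdU : d.opensRange = U.1 := Opens.ext hd
  have hcW : c.opensRange = p ⁻¹ᵁ U.1 := Opens.ext hc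
  let a : Spec A ≅ (p ⁻¹ᵁ U.1).toScheme := c.isoOpensRange ≪≫ X.isoOfEq hcW
  let b : Spec B ≅ U.1.toScheme := d.isoOpensRange ≪≫ Y.isoOfEq hdU
  have sq : a.hom ≫ (p ∣_ U.1) = Spec.map i ≫ b.hom := by
    rw [← cancel_mono U.1.ι]
    simp [a, b, w]
  have : (p ∣_ U.1) = a.inv ≫ Spec.map i ≫ b.hom := by rw [← sq, Iso.inv_hom_id_assoc]
  show Flat (p ∣_ U.1)
  rw [this]
  haveI : Flat (Spec.map i) := (HasRingHomProperty.Spec_iff (P := @Flat)).2 hflat
  infer_instance

theorem isIso_desc_gr [Finite G] (hp : SGA1.IsQuot ρ p) (hfree : Free ρ) :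
    IsIso (Sigma.desc (gr hp.inv) : (∐ fun _ : G => X) ⟶ pullback p p) := by
  classical
  haveI := hp.affine
  have hinjg : ∀ g, Function.Injective (gr hp.inv g) := fun g x x' e => by
    have h1 : ∀ z, pullback.fst p p (gr hp.inv g z) = z := fun z => by
      rw [← Scheme.Hom.comp_apply, pullback.lift_fst]; rfl
    rw [← h1 x, e, h1]
  -- everything is checked over an affine open of `Y`
  have hloc : ∀ x : X, ∃ (A B : CommRingCat.{u}) (i : B ⟶ A) (c : Spec A ⟶ X) (d : Spec B ⟶ Y)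
      (_ : IsOpenImmersion c) (_ : IsOpenImmersion d) (w : Spec.map i ≫ d = c ≫ p)
      (D : G → (Spec A ⟶ pullback (Spec.map i) (Spec.map i))),
      x ∈ Set.range c ∧ (∀ g, D g ≫ pullback.map _ _ p p c c d w w = c ≫ gr hp.inv g) ∧ IsIso (Sigma.desc D) ∧
      Set.range c = p ⁻¹' Set.range d := fun x => by
    obtain ⟨U, hU, hx, -⟩ := QuotLib.exists_affine (show p x ∈ (⊤ : Y.Opens) from trivial)
    obtain ⟨A, B, i, c, d, hc', hd', w, hd, hc, -, D, hD, hiso⟩ := exists_model hp hfree hU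
    exact ⟨A, B, i, c, d, hc', hd', w, D, hc ▸ hx, hD, hiso, hc.trans (by rw [hd])⟩
  haveI : ∀ g, IsOpenImmersion (gr hp.inv g) := fun g => by
    choose A B i c d hc hd w D hxc hD hiso hr using hloc
    have hopen : ∀ x, IsOpenImmersion (c x ≫ gr hp.inv g) := fun x => by
      haveI := hc x; haveI := hd x; haveI := hiso x
      rw [← hD x g, ← Sigma.ι_desc (D x) g, Category.assoc]
      infer_instance
    rw [IsOpenImmersion.iff_isIso_stalkMap]
    refine ⟨Topology.IsOpenEmbedding.of_continuous_injective_isOpenMap (gr hp.inv g).continuous (hinjg g) ?_, fun x => ?_⟩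
    · intro s hs
      have : gr hp.inv g '' s = ⋃ x : X, (c x ≫ gr hp.inv g) '' (c x ⁻¹' s) := by
        ext z
        simp only [Set.mem_image, Set.mem_iUnion, Set.mem_preimage]
        constructor
        · rintro ⟨y, hy, rfl⟩
          obtain ⟨a, ha⟩ := hxc y
          exact ⟨y, a, by rwa [ha], by rw [Scheme.Hom.comp_apply, ha]⟩
        · rintro ⟨x, a, ha, rfl⟩
          exact ⟨_, ha, (Scheme.Hom.comp_apply _ _ _).symm⟩
      rw [this]
      exact isOpen_iUnion fun x => (hopen x).base_open.isOpenMap _ (hs.preimage (c x).continuous)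
    · obtain ⟨a, ha⟩ := hxc x
      haveI := hc x
      haveI := hopen x
      have h1 : IsIso ((c x ≫ gr hp.inv g).stalkMap a) := inferInstance
      rw [Scheme.Hom.stalkMap_comp] at h1
      have := @IsIso.of_isIso_comp_right _ _ _ _ _ ((gr hp.inv g).stalkMap (c x a)) ((c x).stalkMap a) inferInstance h1
      rwa [ha] at this
  -- points: jointly surjective and disjoint
  have hsurj : ∀ z : ↥(pullback p p), ∃ g x, gr hp.inv g x = z := fun z => by
    obtain ⟨A, B, i, c, d, hc', hd', w, D, hx, hD, hiso, hr⟩ := hloc (pullback.fst p p z)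
    have hz : z ∈ Set.range (pullback.map _ _ p p c c d w w) := by
      rw [Scheme.Pullback.range_map]
      refine ⟨hx, ?_⟩
      show pullback.snd p p z ∈ Set.range c
      rw [hr]
      have := hr.le hx
      show p (pullback.snd p p z) ∈ Set.range d
      rwa [← Scheme.Hom.comp_apply, ← pullback.condition, Scheme.Hom.comp_apply]
    obtain ⟨z', rfl⟩ := hz
    obtain ⟨q, rfl⟩ := (Sigma.desc D).surjective z'
    obtain ⟨⟨g, a⟩, rfl⟩ := (sigmaMk (fun _ : G => Spec A)).surjective q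
    refine ⟨g, c a, ?_⟩
    rw [← Scheme.Hom.comp_apply, ← hD g, ← Sigma.ι_desc D g, Category.assoc]
    rw [Scheme.Hom.comp_apply, sigmaMk_mk]
    rfl
  have hdisj : ∀ g h x x', gr hp.inv g x = gr hp.inv h x' → g = h := fun g h x x' e => by
    have h1 : ∀ g z, pullback.fst p p (gr hp.inv g z) = z := fun g z => by
      rw [← Scheme.Hom.comp_apply, pullback.lift_fst]; rfl
    obtain rfl : x = x' := by rw [← h1 g x, e, h1]
    obtain ⟨A, B, i, c, d, hc', hd', w, D, ⟨a, rfl⟩, hD, hiso, hr⟩ := hloc x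
    rw [← Scheme.Hom.comp_apply, ← Scheme.Hom.comp_apply, ← hD, ← hD, Scheme.Hom.comp_apply,
      Scheme.Hom.comp_apply] at e
    have e2 := (pullback.map _ _ p p c c d w w).isOpenEmbedding.injective e
    rw [← Sigma.ι_desc D g, ← Sigma.ι_desc D h, Scheme.Hom.comp_apply, Scheme.Hom.comp_apply,
      ← sigmaMk_mk, ← sigmaMk_mk] at e2
    exact congrArg Sigma.fst ((sigmaMk (fun _ : G => Spec A)).injective ((Sigma.desc D).isOpenEmbedding.injective e2))
  haveI := isOpenImmersion_sigmaDesc (g := fun _ : G => X) (gr hp.inv) fun g h hne =>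
    Set.disjoint_left.2 fun z ⟨x, hx⟩ ⟨x', hx'⟩ => hne (hdisj g h x x' (hx.trans hx'.symm))
  haveI : Surjective (Sigma.desc (gr hp.inv)) := ⟨fun z => by
    obtain ⟨g, x, rfl⟩ := hsurj z
    exact ⟨Sigma.ι (fun _ : G => X) g x, by rw [← Scheme.Hom.comp_apply, Sigma.ι_desc]⟩⟩
  exact isIso_of_isOpenImmersion_of_opensRange_eq_top _ (Opens.ext (Set.range_eq_univ.2 (Scheme.Hom.surjective _)))

theorem isIso_of_section [Finite G] (hp : SGA1.IsQuot ρ p) (hfree : Free ρ) (s : Y ⟶ X) (hs : s ≫ p = 𝟙 Y) :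
    IsIso (Sigma.desc (fun g : G => s ≫ (ρ g).hom) : (∐ fun _ : G => Y) ⟶ X) := by
  haveI := isIso_desc_gr hp hfree
  let Θ := Sigma.desc (gr hp.inv)
  let k : X ⟶ pullback p p := pullback.lift (p ≫ s) (𝟙 X) (by rw [Category.assoc, hs, Category.comp_id, Category.id_comp])
  let m : X ⟶ ∐ fun _ : G => X := k ≫ inv Θ
  let q : (∐ fun _ : G => X) ⟶ ∐ fun _ : G => Y := Limits.Sigma.map fun _ => p
  have hk1 : k ≫ pullback.fst p p = p ≫ s := pullback.lift_fst _ _ _
  have hk2 : k ≫ pullback.snd p p = 𝟙 X := pullback.lift_snd _ _ _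
  have hΘ1 : ∀ g, Sigma.ι (fun _ : G => X) g ≫ Θ = gr hp.inv g := fun g => Sigma.ι_desc _ _
  have hm1 : m ≫ Sigma.desc (fun _ => 𝟙 X) = p ≫ s := by
    rw [show Sigma.desc (fun _ : G => 𝟙 X) = Θ ≫ pullback.fst p p from Sigma.hom_ext _ _ fun g => by
      rw [Sigma.ι_desc, reassoc_of% hΘ1]; first | rw [gr_fst] | rw [gr_snd]]
    simp only [m, Category.assoc, IsIso.inv_hom_id_assoc]
    assumption
  have hm2 : m ≫ Sigma.desc (fun g => (ρ g).hom) = 𝟙 X := by
    rw [show Sigma.desc (fun g : G => (ρ g).hom) = Θ ≫ pullback.snd p p from Sigma.hom_ext _ _ fun g => by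
      rw [Sigma.ι_desc, reassoc_of% hΘ1]; first | rw [gr_fst] | rw [gr_snd]]
    simp only [m, Category.assoc, IsIso.inv_hom_id_assoc]
    assumption
  refine ⟨m ≫ q, ?_, ?_⟩
  · refine Sigma.hom_ext _ _ fun g => ?_
    rw [Sigma.ι_desc_assoc, Category.comp_id]
    have : (s ≫ (ρ g).hom) ≫ k = s ≫ Sigma.ι (fun _ : G => X) g ≫ Θ := by
      apply pullback.hom_ext
      · simp only [Category.assoc, hk1, reassoc_of% hΘ1, gr_fst, Category.comp_id]
        rw [reassoc_of% hp.inv g, reassoc_of% hs]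
      · simp only [Category.assoc, hk2, reassoc_of% hΘ1, gr_snd, Category.comp_id]
    simp only [m, q]
    rw [← Category.assoc, ← Category.assoc, this]
    simp [hs, reassoc_of% hs]
  · have hd : Sigma.desc (fun g => p ≫ s ≫ (ρ g).hom) = q ≫ Sigma.desc (fun g => s ≫ (ρ g).hom) :=
      Sigma.hom_ext _ _ fun g => by simp [q]
    rw [Category.assoc, ← hd]
    have key : ∀ g : G, pullback.fst m (Sigma.ι (fun _ : G => X) g) ≫ m ≫ Sigma.desc (fun g => p ≫ s ≫ (ρ g).hom) =
        pullback.fst m (Sigma.ι (fun _ : G => X) g) ≫ m ≫ Sigma.desc (fun g => (ρ g).hom) := fun g => by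
      rw [pullback.condition_assoc, pullback.condition_assoc, Sigma.ι_desc, Sigma.ι_desc]
      have h1 := pullback.fst m (Sigma.ι (fun _ : G => X) g) ≫= hm1
      rw [pullback.condition_assoc, Sigma.ι_desc, Category.comp_id] at h1
      have h2 : pullback.fst m (Sigma.ι (fun _ : G => X) g) ≫ p = pullback.snd _ _ ≫ p := by
        rw [h1]; simp [hs]
      rw [← reassoc_of% h2, ← Category.assoc p s, ← Category.assoc, ← h1]
    refine Scheme.Cover.hom_ext ((sigmaOpenCover fun _ : G => X).pullback₁ m) _ _ fun g => ?_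
    exact (key g).trans (congrArg _ hm2)

end TorsorQuotLib
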