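import Groth.Agent.TorsorQuotLib.Main

noncomputable section

universe u

open CategoryTheory CategoryTheory.Limits AlgebraicGeometry TopologicalSpace

namespace TorsorQuotLib

variable {X Y : Scheme.{u}}

theorem eq_of_comp_point {p : X ⟶ Y} [IsSeparated p] [FormallyUnramified p] [LocallyOfFiniteType p]
    [ConnectedSpace X] {u v : X ⟶ X} (h : u ≫ p = v ≫ p) {Z : Scheme.{u}} [Nonempty Z] (ξ : Z ⟶ X)
    (hξ : ξ ≫ u = ξ ≫ v) : u = v := by
  let e := pullback.lift u v h
  let π := pullback.snd (pullback.diagonal p) e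
  have hopen : IsOpen (Set.range π) := π.isOpenEmbedding.isOpen_range
  have hclosed : IsClosed (Set.range π) := π.isClosedEmbedding.isClosed_range
  have hne : (Set.range π).Nonempty := by
    obtain ⟨z⟩ := ‹Nonempty Z›
    let l : Z ⟶ pullback (pullback.diagonal p) e := pullback.lift (ξ ≫ u) ξ (by
      apply pullback.hom_ext
      · rw [Category.assoc, Category.assoc, pullback.diagonal_fst, Category.comp_id, Category.assoc, pullback.lift_fst]
      · rw [Category.assoc, Category.assoc, pullback.diagonal_snd, Category.comp_id, Category.assoc, pullback.lift_snd, hξ])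
    exact ⟨π (l z), l z, rfl⟩
  have : Surjective π := ⟨Set.range_eq_univ.1 (IsClopen.eq_univ ⟨hclosed, hopen⟩ hne)⟩
  haveI : IsIso π := isIso_of_isOpenImmersion_of_opensRange_eq_top _ (Opens.ext (Set.range_eq_univ.2 π.surjective))
  rw [← cancel_epi π, ← pullback.lift_fst u v h, ← pullback.condition_assoc, pullback.diagonal_fst]
  conv_rhs => rw [← pullback.lift_snd u v h, ← pullback.condition_assoc, pullback.diagonal_snd]

variable {G : Type u} [Group G] {ρ : G →* Aut X} {p : X ⟶ Y}

theorem free_of_etale (hp : SGA1.IsQuot ρ p) [IsFinite p] [ConnectedSpace X] [Etale p]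
    (hfaith : Function.Injective ρ) : Free ρ := fun K _ _ ξ g hg => by
  have : (ρ g).hom = 𝟙 X := eq_of_comp_point (p := p) (by rw [hp.inv, Category.id_comp]) ξ (by rw [hg, Category.comp_id])
  exact hfaith ((Iso.ext this).trans (map_one ρ).symm)

theorem exists_unique_of_aut [Finite G] (hp : SGA1.IsQuot ρ p) [ConnectedSpace X] (hfree : Free ρ)
    (hfaith : Function.Injective ρ) (u : Aut X) (hu : u.hom ≫ p = p) : ∃! g : G, ρ g = u := by
  haveI := isIso_desc_gr hp hfree
  let Θ := Sigma.desc (gr hp.inv)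
  let k : X ⟶ pullback p p := pullback.lift (𝟙 X) u.hom (by rw [Category.id_comp, hu])
  have hopen : ∀ g, IsOpenImmersion (gr hp.inv g) := fun g => by
    rw [← Sigma.ι_desc (gr hp.inv) g]; infer_instance
  let R : G → Set X := fun g => k ⁻¹' Set.range (gr hp.inv g)
  have hR : ∀ g, IsOpen (R g) := fun g => (hopen g).base_open.isOpen_range.preimage k.continuous
  have hcov : ∀ x, ∃ g, x ∈ R g := fun x => by
    obtain ⟨q, hq⟩ := Θ.surjective (k x)
    obtain ⟨⟨g, a⟩, rfl⟩ := (sigmaMk (fun _ : G => X)).surjective q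
    exact ⟨g, a, by rw [← hq, sigmaMk_mk, ← Scheme.Hom.comp_apply, Sigma.ι_desc]⟩
  have hdisj : ∀ g h x, x ∈ R g → x ∈ R h → g = h := by
    rintro g h x ⟨a, ha⟩ ⟨b, hb⟩
    have e := ha.trans hb.symm
    rw [← Sigma.ι_desc (gr hp.inv) g, ← Sigma.ι_desc (gr hp.inv) h, Scheme.Hom.comp_apply, Scheme.Hom.comp_apply,
      ← sigmaMk_mk, ← sigmaMk_mk] at e
    exact congrArg Sigma.fst ((sigmaMk (fun _ : G => X)).injective (Θ.isOpenEmbedding.injective e))
  obtain ⟨x⟩ := (inferInstance : Nonempty X)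
  obtain ⟨g, hg⟩ := hcov x
  have hclosed : IsClosed (R g) := by
    rw [← isOpen_compl_iff, show (R g)ᶜ = ⋃ h : {h // h ≠ g}, R h.1 from ?_]
    · exact isOpen_iUnion fun h => hR _
    · ext z
      simp only [Set.mem_compl_iff, Set.mem_iUnion]
      refine ⟨fun hz => ?_, fun ⟨h, hh⟩ hz => h.2 (hdisj _ _ _ hh hz)⟩
      obtain ⟨h, hh⟩ := hcov z
      exact ⟨⟨h, fun e => hz (e ▸ hh)⟩, hh⟩
  have hall : R g = Set.univ := IsClopen.eq_univ ⟨hclosed, hR g⟩ ⟨x, hg⟩
  haveI := hopen g
  have hr : Set.range k ⊆ Set.range (gr hp.inv g) := by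
    rintro _ ⟨z, rfl⟩; exact hall.ge (Set.mem_univ z)
  let l := IsOpenImmersion.lift (gr hp.inv g) k hr
  have hl : l = 𝟙 X := by
    have h0 := (IsOpenImmersion.lift_fac (gr hp.inv g) k hr) =≫ pullback.fst p p
    rw [Category.assoc, gr_fst, Category.comp_id, pullback.lift_fst] at h0
    exact h0
  have hug : (ρ g).hom = u.hom := by
    have h0 := (IsOpenImmersion.lift_fac (gr hp.inv g) k hr) =≫ pullback.snd p p
    rw [Category.assoc, gr_snd, pullback.lift_snd] at h0
    rw [← h0]
    show _ = l ≫ _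
    rw [hl, Category.id_comp]
  exact ⟨g, Iso.ext hug, fun h hh => hfaith (hh.trans (Iso.ext hug).symm)⟩

end TorsorQuotLib
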