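import Mathlib.RingTheory.Invariant.Basic
import Mathlib.RingTheory.TensorProduct.Basic
import Mathlib.LinearAlgebra.TensorProduct.Finiteness
import Mathlib.Algebra.Module.Projective
import Mathlib.RingTheory.Flat.Basic
import Mathlib.RingTheory.LocalRing.ResidueField.Ideal
import Mathlib.FieldTheory.IsAlgClosed.AlgebraicClosure

/-!
# Galois extensions of commutative rings: free actions give torsors
-/

universe u

open TensorProduct

namespace TorsorQuotLib

variable {B A G : Type u} [CommRing B] [CommRing A] [Algebra B A] [Group G]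
  [MulSemiringAction G A] [SMulCommClass G B A]

/-- `a ⊗ b ↦ (g ↦ a * g • b)`. -/
noncomputable def phi : A ⊗[B] A →ₐ[B] (G → A) :=
  Algebra.TensorProduct.lift (Pi.algHom B (fun _ : G => A) fun _ => AlgHom.id B A)
    (Pi.algHom B (fun _ : G => A) fun g => MulSemiringAction.toAlgHom B A g) fun _ _ => Commute.all _ _

theorem phi_tmul (a b : A) (g : G) : phi (B := B) (G := G) (a ⊗ₜ[B] b) g = a * g • b := by
  simp [phi]

theorem exists_sep_one (g : G) (h : Ideal.span (Set.range fun a : A => a - g • a) = ⊤) :
    ∃ e : A ⊗[B] A, phi (G := G) e (1 : G) = 1 ∧ phi (G := G) e g = 0 := by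
  have h1 : (1 : A) ∈ Ideal.span (Set.range fun a : A => a - g • a) := h ▸ Submodule.mem_top
  obtain ⟨c, hc⟩ := Finsupp.mem_span_range_iff_exists_finsupp.1 h1
  have hsum : c.sum (fun a r => r * a) - c.sum (fun a r => r * g • a) = 1 := by
    rw [← hc, Finsupp.sum, Finsupp.sum, ← Finset.sum_sub_distrib, Finsupp.sum]
    exact Finset.sum_congr rfl fun a _ => by rw [smul_eq_mul, mul_sub]
  refine ⟨c.sum (fun a r => r ⊗ₜ[B] a) - (c.sum fun a r => r * g • a) ⊗ₜ[B] 1, ?_, ?_⟩
  · rw [map_sub, Pi.sub_apply, Finsupp.sum, map_sum, Finset.sum_apply, phi_tmul, smul_one, mul_one]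
    simpa [phi_tmul, Finsupp.sum] using hsum
  · rw [map_sub, Pi.sub_apply, Finsupp.sum, map_sum, Finset.sum_apply, phi_tmul, smul_one, mul_one]
    simp [phi_tmul, Finsupp.sum]

variable [Finite G]

theorem exists_sep (h : ∀ g : G, g ≠ 1 → Ideal.span (Set.range fun a : A => a - g • a) = ⊤) :
    ∃ e : A ⊗[B] A, phi (G := G) e (1 : G) = 1 ∧ ∀ g : G, g ≠ 1 → phi (G := G) e g = 0 := by
  classical
  haveI := Fintype.ofFinite G
  choose e he1 heg using fun g : {g : G // g ≠ 1} => exists_sep_one (B := B) g.1 (h g.1 g.2)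
  refine ⟨∏ g, e g, by rw [map_prod, Finset.prod_apply]; exact Finset.prod_eq_one fun g _ => he1 g, fun g hg => ?_⟩
  rw [map_prod, Finset.prod_apply]
  exact Finset.prod_eq_zero (Finset.mem_univ ⟨g, hg⟩) (heg ⟨g, hg⟩)

theorem phi_surjective (h : ∀ g : G, g ≠ 1 → Ideal.span (Set.range fun a : A => a - g • a) = ⊤) :
    Function.Surjective (phi (B := B) (A := A) (G := G)) := by
  classical
  haveI := Fintype.ofFinite G
  obtain ⟨e, he1, heg⟩ := exists_sep (B := B) h
  intro f
  refine ⟨∑ k : G, (f k ⊗ₜ[B] 1) *
    Algebra.TensorProduct.map (AlgHom.id B A) (MulSemiringAction.toAlgHom B A k⁻¹) e, funext fun g => ?_⟩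
  have key : ∀ (k : G) (z : A ⊗[B] A),
      phi (Algebra.TensorProduct.map (AlgHom.id B A) (MulSemiringAction.toAlgHom B A k⁻¹) z) g =
        phi z (g * k⁻¹) := fun k z => by
    induction z using TensorProduct.induction_on with
    | zero => simp
    | tmul a b => simp [phi_tmul, mul_smul]
    | add x y hx hy => rw [map_add, map_add, map_add, Pi.add_apply, Pi.add_apply, hx, hy]
  rw [map_sum, Finset.sum_apply]
  rw [Finset.sum_eq_single g]
  · rw [map_mul, Pi.mul_apply, key, mul_inv_cancel, he1, phi_tmul, smul_one, mul_one, mul_one]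
  · intro k _ hk
    rw [map_mul, Pi.mul_apply, key, heg _ (by rwa [ne_eq, mul_inv_eq_one, eq_comm]), mul_zero]
  · simp

variable [Algebra.IsInvariant B A G]

theorem exists_dual (hinj : Function.Injective (algebraMap B A))
    (h : ∀ g : G, g ≠ 1 → Ideal.span (Set.range fun a : A => a - g • a) = ⊤) :
    ∃ (n : ℕ) (x y : Fin n → A) (t : Fin n → (A →ₗ[B] B)),
      (∀ [Fintype G] i a, algebraMap B A (t i a) = ∑ g : G, g • (y i * a)) ∧
      ∀ a, ∑ i, t i a • x i = a := by
  classical
  haveI := Fintype.ofFinite G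
  obtain ⟨e, he1, heg⟩ := exists_sep (B := B) h
  obtain ⟨S, hS⟩ := TensorProduct.exists_finset e
  let q := S.equivFin.symm
  let x : Fin S.card → A := fun i => (q i).1.1
  let y : Fin S.card → A := fun i => (q i).1.2
  have hxy : ∀ g : G, ∑ i, x i * g • y i = if g = 1 then 1 else 0 := fun g => by
    have : phi (G := G) e g = ∑ i, x i * g • y i := by
      rw [hS, map_sum, Finset.sum_apply, ← Finset.sum_coe_sort, ← q.sum_comp]
      exact Finset.sum_congr rfl fun i _ => phi_tmul _ _ _
    rw [← this]
    split_ifs with hg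
    · rw [hg, he1]
    · exact heg g hg
  have htr : ∀ a : A, ∀ g : G, g • (∑ k : G, k • a) = ∑ k : G, k • a := fun a g => by
    rw [Finset.smul_sum]
    exact Fintype.sum_equiv (Equiv.mulLeft g) _ _ fun k => (mul_smul g k a).symm
  choose T hT using fun a : A => Algebra.IsInvariant.isInvariant (A := B) (∑ k : G, k • a) (htr a)
  let T' : A →ₗ[B] B :=
    { toFun := T
      map_add' := fun a b => hinj (by simp only [map_add, hT, smul_add, Finset.sum_add_distrib])
      map_smul' := fun b a => hinj (by
        simp only [RingHom.id_apply, smul_eq_mul, map_mul, hT, Finset.mul_sum]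
        refine Finset.sum_congr rfl fun k _ => ?_
        rw [smul_comm, Algebra.smul_def]) }
  refine ⟨S.card, x, y, fun i => T'.comp (LinearMap.mulLeft B (y i)), fun {inst} i a => ?_, fun a => ?_⟩
  · convert hT (y i * a)
    rfl
  · calc ∑ i, T (y i * a) • x i = ∑ i, ∑ g : G, (x i * g • y i) * g • a := by
          refine Finset.sum_congr rfl fun i _ => ?_
          rw [Algebra.smul_def, hT, Finset.sum_mul]
          exact Finset.sum_congr rfl fun g _ => by rw [smul_mul']; ring
      _ = a := by
          rw [Finset.sum_comm]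
          simp [← Finset.sum_mul, hxy]

theorem phi_injective (hinj : Function.Injective (algebraMap B A))
    (h : ∀ g : G, g ≠ 1 → Ideal.span (Set.range fun a : A => a - g • a) = ⊤) :
    Function.Injective (phi (B := B) (A := A) (G := G)) := by
  classical
  haveI := Fintype.ofFinite G
  obtain ⟨n, x, y, t, ht, hx⟩ := exists_dual hinj h
  have key : ∀ z : A ⊗[B] A, z = ∑ i, (∑ g : G, g • y i * phi z g) ⊗ₜ[B] x i := fun z => by
    induction z using TensorProduct.induction_on with
    | zero => simp
    | tmul a b =>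
      conv_lhs => rw [← hx b, TensorProduct.tmul_sum]
      refine Finset.sum_congr rfl fun i _ => ?_
      rw [← TensorProduct.smul_tmul, Algebra.smul_def, ht, Finset.sum_mul]
      congr 1
      exact Finset.sum_congr rfl fun g _ => by rw [phi_tmul, smul_mul']; ring
    | add z w hz hw =>
      conv_lhs => rw [hz, hw]
      simp only [map_add, Pi.add_apply, mul_add, Finset.sum_add_distrib, TensorProduct.add_tmul]
  rw [injective_iff_map_eq_zero]
  intro z hz
  rw [key z]
  simp [hz]

theorem flat (hinj : Function.Injective (algebraMap B A))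
    (h : ∀ g : G, g ≠ 1 → Ideal.span (Set.range fun a : A => a - g • a) = ⊤) : Module.Flat B A := by
  obtain ⟨n, x, y, t, -, hx⟩ := exists_dual hinj h
  haveI : Module.Projective B A := Module.Projective.of_split (P := A) (M := Fin n → B) (LinearMap.pi t)
    (Fintype.linearCombination B x) (LinearMap.ext fun a => by
      simp [Fintype.linearCombination_apply, hx])
  infer_instance

omit [SMulCommClass G B A] [Finite G] [Algebra.IsInvariant B A G] [Algebra B A] [CommRing B] in
/-- Freeness on geometric points gives the unit ideals. -/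
theorem span_eq_top (g : G)
    (h : ∀ (K : Type u) [Field K] [IsAlgClosed K] (ψ : A →+* K), ¬ ∀ a : A, ψ (g • a) = ψ a) :
    Ideal.span (Set.range fun a : A => a - g • a) = ⊤ := by
  by_contra hne
  obtain ⟨m, hm, hle⟩ := Ideal.exists_le_maximal _ hne
  haveI := hm.isPrime
  let ψ : A →+* AlgebraicClosure m.ResidueField :=
    (algebraMap m.ResidueField (AlgebraicClosure m.ResidueField)).comp (algebraMap A m.ResidueField)
  refine h _ ψ fun a => ?_
  have : algebraMap A m.ResidueField (a - g • a) = 0 :=
    Ideal.algebraMap_residueField_eq_zero.2 (hle (Ideal.subset_span ⟨a, rfl⟩))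
  rw [map_sub, sub_eq_zero] at this
  simp [ψ, this]

end TorsorQuotLib
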